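import Cfsg.Agent.Lib.H34.TCS6A.Data
import Cfsg.Agent.Lib.H35.TC
set_option autoImplicit false
set_option maxRecDepth 100000
set_option linter.all false
namespace H34.TCS6A
open H35.TC
/-- letters -/
inductive Lt | t0 | t1 | t2 | t3 | t4 | t5 | t6 | w | v | vi
  deriving DecidableEq
/-- inverse letter -/
def inv : Lt → Lt
  | .t0 => .t0
  | .t1 => .t1
  | .t2 => .t2
  | .t3 => .t3
  | .t4 => .t4
  | .t5 => .t5
  | .t6 => .t6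
  | .w => .w
  | .v => .vi
  | .vi => .v
/-- table functions -/
noncomputable def T : Lt → ℕ → ℕ
  | .t0 => T_t0
  | .t1 => T_t1
  | .t2 => T_t2
  | .t3 => T_t3
  | .t4 => T_t4
  | .t5 => T_t5
  | .t6 => T_t6
  | .w => T_w
  | .v => T_v
  | .vi => T_vi
/-- decoding of letter codes -/
def lt : ℕ → Lt
  | 0 => .t0
  | 1 => .t1
  | 2 => .t2
  | 3 => .t3
  | 4 => .t4
  | 5 => .t5
  | 6 => .t6
  | 7 => .w
  | 8 => .v
  | _ => .vi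
/-- Coxeter matrix (0: no relation) -/
def mm : Lt → Lt → ℕ
  | .t0, .t0 => 1
  | .t0, .t1 => 3
  | .t0, .w => 2
  | .t1, .t0 => 3
  | .t1, .t1 => 1
  | .t1, .t2 => 3
  | .t1, .t4 => 3
  | .t1, .w => 2
  | .t2, .t1 => 3
  | .t2, .t2 => 1
  | .t2, .t3 => 3
  | .t2, .w => 2
  | .t3, .t2 => 3
  | .t3, .t3 => 1
  | .t3, .w => 2
  | .t4, .t1 => 3
  | .t4, .t4 => 1
  | .t4, .t5 => 3
  | .t4, .w => 2
  | .t5, .t4 => 3
  | .t5, .t5 => 1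
  | .t5, .t6 => 3
  | .t5, .w => 2
  | .t6, .t5 => 3
  | .t6, .t6 => 1
  | .t6, .w => 2
  | .w, .t0 => 2
  | .w, .t1 => 2
  | .w, .t2 => 2
  | .w, .t3 => 2
  | .w, .t4 => 2
  | .w, .t5 => 2
  | .w, .t6 => 2
  | .w, .w => 1
  | _, _ => 0
/-- extra relators `w ^ n` -/
def extra : List (List Lt × ℕ) := [
  ([.v, .t6, .vi, .t6], 1),
  ([.w, .v, .w, .vi], 1),
  ([.v, .t0, .vi, .t0], 1),
  ([.v, .t1, .vi, .t1], 1),
  ([.v, .t2, .vi, .t2], 1),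
  ([.v, .t3, .vi, .t3], 1),
  ([.v, .t4, .vi, .t4], 1),
  ([.v, .t5, .vi, .t5], 1),
  ([.t0, .t2, .t0, .t2, .w], 1),
  ([.t6, .t4, .t6, .t4, .w], 1),
  ([.t6, .t3, .t6, .t3, .w], 1),
  ([.t5, .t3, .t5, .t3, .w], 1),
  ([.t0, .t3, .t0, .t3, .w], 1),
  ([.t4, .t0, .t4, .t0, .w], 1),
  ([.t4, .t3, .t4, .t3, .w], 1),
  ([.t6, .t2, .t6, .t2, .w], 1),
  ([.t5, .t2, .t5, .t2, .w], 1),
  ([.t4, .t2, .t4, .t2, .w], 1),
  ([.t5, .t0, .t5, .t0, .w], 1),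
  ([.t6, .t1, .t6, .t1, .w], 1),
  ([.t5, .t1, .t5, .t1, .w], 1),
  ([.t6, .t0, .t6, .t0, .w], 1),
  ([.t1, .t3, .t1, .t3, .w], 1),
  ([.t0, .t1, .t2, .t3, .t4, .t5, .t6, .t0, .t1, .t2, .t3, .t4, .t5, .t6, .t0, .t1, .t2, .t3, .t4, .t5, .t6, .t0, .t1, .t2, .t3, .t4, .t5, .t6, .t0, .t1, .t2, .t3, .t4, .t5, .t6, .t0, .t1, .t2, .t3, .t4, .t5, .t6, .t0, .t1, .t2, .t3, .t4, .t5, .t6, .t0, .t1, .t2, .t3, .t4, .t5, .t6, .t0, .t1, .t2, .t3, .t4, .t5, .t6, .vi], 1),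
  ([.v, .vi], 1),
  ([.vi, .v], 1)]
/-- relators -/
def rels : List (List Lt) := mkRels [(.w, .t0), (.w, .t1), (.w, .t2), (.w, .t3), (.w, .t4), (.w, .t5), (.w, .t6), (.t0, .t1), (.t1, .t2), (.t1, .t4), (.t2, .t3), (.t5, .t6), (.t4, .t5), (.t0, .t0), (.t1, .t1), (.t2, .t2), (.t3, .t3), (.t4, .t4), (.t5, .t5), (.t6, .t6), (.w, .w)] mm extra
/-- subgroup words -/
def subs : List (List Lt) := [
  [.t0],
  [.t1],
  [.t2],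
  [.t3],
  [.t4],
  [.t5]]
noncomputable def dp_t0_0 (j u : ℕ) : Bool :=
  Bool.rec (motive := fun _ => Bool) (lF [T_w, T_t4, T_t0, T_t4] M (Nat.sub (T_t0 u) (Nat.mod (T_t0 u) M)) (Nat.mod (T_t0 u) M) u) (lF [T_w, T_t6, T_t0, T_t6] M (Nat.sub (T_t0 u) (Nat.mod (T_t0 u) M)) (Nat.mod (T_t0 u) M) u) (Nat.ble (nat_lit 5) j)
noncomputable def dp_t0_1 (j u : ℕ) : Bool :=
  Bool.rec (motive := fun _ => Bool) (lF [T_t6, T_t0, T_w, T_t6] M (Nat.sub (T_t0 u) (Nat.mod (T_t0 u) M)) (Nat.mod (T_t0 u) M) u) (lF [T_t4, T_t0, T_w, T_t4] M (Nat.sub (T_t0 u) (Nat.mod (T_t0 u) M)) (Nat.mod (T_t0 u) M) u) (Nat.ble (nat_lit 7) j)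
noncomputable def dp_t0_2 (j u : ℕ) : Bool :=
  Bool.rec (motive := fun _ => Bool) (lDef P (nat_lit 0) (Nat.mod (T_t0 u) M) u) (lDef P (nat_lit 0) u (Nat.mod (T_t0 u) M)) (Nat.ble (nat_lit 9) j)
noncomputable def dp_t0_3 (j u : ℕ) : Bool :=
  Bool.rec (motive := fun _ => Bool) (lF [T_t2, T_w, T_t0, T_t2] M (Nat.sub (T_t0 u) (Nat.mod (T_t0 u) M)) (Nat.mod (T_t0 u) M) u) (lF [T_t3, T_w, T_t0, T_t3] M (Nat.sub (T_t0 u) (Nat.mod (T_t0 u) M)) (Nat.mod (T_t0 u) M) u) (Nat.ble (nat_lit 11) j)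
noncomputable def dp_t0_4 (j u : ℕ) : Bool :=
  Bool.rec (motive := fun _ => Bool) (lF [T_t5, T_t0, T_w, T_t5] M (Nat.sub (T_t0 u) (Nat.mod (T_t0 u) M)) (Nat.mod (T_t0 u) M) u) (lF [T_t1, T_t0, T_t1, T_t0, T_t1] M (Nat.sub (T_t0 u) (Nat.mod (T_t0 u) M)) (Nat.mod (T_t0 u) M) u) (Nat.ble (nat_lit 14) j)
noncomputable def dp_t0_5 (j u : ℕ) : Bool :=
  Bool.rec (motive := fun _ => Bool) (lH [] [] M (Nat.sub (T_t0 u) (Nat.mod (T_t0 u) M)) (Nat.mod (T_t0 u) M) u) (dp_t0_4 j u) (Nat.ble (nat_lit 13) j)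
noncomputable def dp_t0_6 (j u : ℕ) : Bool :=
  Bool.rec (motive := fun _ => Bool) (dp_t0_3 j u) (dp_t0_5 j u) (Nat.ble (nat_lit 12) j)
noncomputable def dp_t0_7 (j u : ℕ) : Bool :=
  Bool.rec (motive := fun _ => Bool) (Bool.rec (motive := fun _ => Bool) (dp_t0_1 j u) (dp_t0_2 j u) (Nat.ble (nat_lit 8) j)) (dp_t0_6 j u) (Nat.ble (nat_lit 10) j)
noncomputable def dp_t0_8 (j u : ℕ) : Bool :=
  Bool.rec (motive := fun _ => Bool) (Bool.rec (motive := fun _ => Bool) (Bool.rec (motive := fun _ => Bool) (lF3 T_v T_t0 T_vi M (Nat.sub (T_t0 u) (Nat.mod (T_t0 u) M)) (Nat.mod (T_t0 u) M) u) (lF [T_w, T_t5, T_t0, T_t5] M (Nat.sub (T_t0 u) (Nat.mod (T_t0 u) M)) (Nat.mod (T_t0 u) M) u) (Nat.ble (nat_lit 3) j)) (dp_t0_0 j u) (Nat.ble (nat_lit 4) j)) (dp_t0_7 j u) (Nat.ble (nat_lit 6) j)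
noncomputable def disp_t0 (j u : ℕ) : Bool :=
  Bool.rec (motive := fun _ => Bool) (Bool.rec (motive := fun _ => Bool) (lF3 T_vi T_t0 T_v M (Nat.sub (T_t0 u) (Nat.mod (T_t0 u) M)) (Nat.mod (T_t0 u) M) u) (lF1 T_t0 M (Nat.sub (T_t0 u) (Nat.mod (T_t0 u) M)) (Nat.mod (T_t0 u) M) u) (Nat.ble (nat_lit 1) j)) (dp_t0_8 j u) (Nat.ble (nat_lit 2) j)
noncomputable def chk_t0 (j u : ℕ) : Bool :=
  Bool.rec (motive := fun _ => Bool) (disp_t0 j u) (Nat.ble (Nat.succ (MG u)) A) (Nat.ble A (T_t0 u))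
noncomputable def dp_t1_0 (j u : ℕ) : Bool :=
  Bool.rec (motive := fun _ => Bool) (lF [T_w, T_t6, T_t1, T_t6] M (Nat.sub (T_t1 u) (Nat.mod (T_t1 u) M)) (Nat.mod (T_t1 u) M) u) (lDef P (nat_lit 1) (Nat.mod (T_t1 u) M) u) (Nat.ble (nat_lit 5) j)
noncomputable def dp_t1_1 (j u : ℕ) : Bool :=
  Bool.rec (motive := fun _ => Bool) (lF [T_w, T_t5, T_t1, T_t5] M (Nat.sub (T_t1 u) (Nat.mod (T_t1 u) M)) (Nat.mod (T_t1 u) M) u) (lF [T_t0, T_t1, T_t0, T_t1, T_t0] M (Nat.sub (T_t1 u) (Nat.mod (T_t1 u) M)) (Nat.mod (T_t1 u) M) u) (Nat.ble (nat_lit 8) j)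
noncomputable def dp_t1_2 (j u : ℕ) : Bool :=
  Bool.rec (motive := fun _ => Bool) (lF [T_t2, T_t1, T_t2, T_t1, T_t2] M (Nat.sub (T_t1 u) (Nat.mod (T_t1 u) M)) (Nat.mod (T_t1 u) M) u) (lF [T_t4, T_t1, T_t4, T_t1, T_t4] M (Nat.sub (T_t1 u) (Nat.mod (T_t1 u) M)) (Nat.mod (T_t1 u) M) u) (Nat.ble (nat_lit 10) j)
noncomputable def dp_t1_3 (j u : ℕ) : Bool :=
  Bool.rec (motive := fun _ => Bool) (lH [] [] M (Nat.sub (T_t1 u) (Nat.mod (T_t1 u) M)) (Nat.mod (T_t1 u) M) u) (lF [T_t5, T_t1, T_w, T_t5] M (Nat.sub (T_t1 u) (Nat.mod (T_t1 u) M)) (Nat.mod (T_t1 u) M) u) (Nat.ble (nat_lit 12) j)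
noncomputable def dp_t1_4 (j u : ℕ) : Bool :=
  Bool.rec (motive := fun _ => Bool) (lS MG [T_t1] M (Nat.sub (T_t1 u) (Nat.mod (T_t1 u) M)) (nat_lit 40) (Nat.mod (T_t1 u) M) u) (lF [T_t2, T_t3, T_t4, T_t5, T_t6, T_t0, T_t1, T_t2, T_t3, T_t4, T_t5, T_t6, T_t0, T_t1, T_t2, T_t3, T_t4, T_t5, T_t6, T_t0, T_t1, T_t2, T_t3, T_t4, T_t5, T_t6, T_t0, T_t1, T_t2, T_t3, T_t4, T_t5, T_t6, T_t0, T_t1, T_t2, T_t3, T_t4, T_t5, T_t6, T_t0, T_t1, T_t2, T_t3, T_t4, T_t5, T_t6, T_t0, T_t1, T_t2, T_t3, T_t4, T_t5, T_t6, T_t0, T_t1, T_t2, T_t3, T_t4, T_t5, T_t6, T_vi, T_t0] M (Nat.sub (T_t1 u) (Nat.mod (T_t1 u) M)) (Nat.mod (T_t1 u) M) u) (Nat.ble (nat_lit 15) j)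
noncomputable def dp_t1_5 (j u : ℕ) : Bool :=
  Bool.rec (motive := fun _ => Bool) (lF [T_t6, T_t1, T_w, T_t6] M (Nat.sub (T_t1 u) (Nat.mod (T_t1 u) M)) (Nat.mod (T_t1 u) M) u) (dp_t1_4 j u) (Nat.ble (nat_lit 14) j)
noncomputable def dp_t1_6 (j u : ℕ) : Bool :=
  Bool.rec (motive := fun _ => Bool) (dp_t1_3 j u) (dp_t1_5 j u) (Nat.ble (nat_lit 13) j)
noncomputable def dp_t1_7 (j u : ℕ) : Bool :=
  Bool.rec (motive := fun _ => Bool) (Bool.rec (motive := fun _ => Bool) (lDef P (nat_lit 1) u (Nat.mod (T_t1 u) M)) (dp_t1_1 j u) (Nat.ble (nat_lit 7) j)) (Bool.rec (motive := fun _ => Bool) (dp_t1_2 j u) (dp_t1_6 j u) (Nat.ble (nat_lit 11) j)) (Nat.ble (nat_lit 9) j)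
noncomputable def disp_t1 (j u : ℕ) : Bool :=
  Bool.rec (motive := fun _ => Bool) (Bool.rec (motive := fun _ => Bool) (lF3 T_vi T_t1 T_v M (Nat.sub (T_t1 u) (Nat.mod (T_t1 u) M)) (Nat.mod (T_t1 u) M) u) (lF1 T_t1 M (Nat.sub (T_t1 u) (Nat.mod (T_t1 u) M)) (Nat.mod (T_t1 u) M) u) (Nat.ble (nat_lit 1) j)) (Bool.rec (motive := fun _ => Bool) (Bool.rec (motive := fun _ => Bool) (Bool.rec (motive := fun _ => Bool) (lF [T_t3, T_w, T_t1, T_t3] M (Nat.sub (T_t1 u) (Nat.mod (T_t1 u) M)) (Nat.mod (T_t1 u) M) u) (lF3 T_v T_t1 T_vi M (Nat.sub (T_t1 u) (Nat.mod (T_t1 u) M)) (Nat.mod (T_t1 u) M) u) (Nat.ble (nat_lit 3) j)) (dp_t1_0 j u) (Nat.ble (nat_lit 4) j)) (dp_t1_7 j u) (Nat.ble (nat_lit 6) j)) (Nat.ble (nat_lit 2) j)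
noncomputable def chk_t1 (j u : ℕ) : Bool :=
  Bool.rec (motive := fun _ => Bool) (disp_t1 j u) (Nat.ble (Nat.succ (MG u)) A) (Nat.ble A (T_t1 u))
noncomputable def dp_t2_0 (j u : ℕ) : Bool :=
  Bool.rec (motive := fun _ => Bool) (lDef P (nat_lit 2) (Nat.mod (T_t2 u) M) u) (lDef P (nat_lit 2) u (Nat.mod (T_t2 u) M)) (Nat.ble (nat_lit 5) j)
noncomputable def dp_t2_1 (j u : ℕ) : Bool :=
  Bool.rec (motive := fun _ => Bool) (lF [T_w, T_t5, T_t2, T_t5] M (Nat.sub (T_t2 u) (Nat.mod (T_t2 u) M)) (Nat.mod (T_t2 u) M) u) (lF [T_t5, T_t2, T_w, T_t5] M (Nat.sub (T_t2 u) (Nat.mod (T_t2 u) M)) (Nat.mod (T_t2 u) M) u) (Nat.ble (nat_lit 8) j)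
noncomputable def dp_t2_2 (j u : ℕ) : Bool :=
  Bool.rec (motive := fun _ => Bool) (lF [T_t1, T_t2, T_t1, T_t2, T_t1] M (Nat.sub (T_t2 u) (Nat.mod (T_t2 u) M)) (Nat.mod (T_t2 u) M) u) (lF [T_w, T_t0, T_t2, T_t0] M (Nat.sub (T_t2 u) (Nat.mod (T_t2 u) M)) (Nat.mod (T_t2 u) M) u) (Nat.ble (nat_lit 10) j)
noncomputable def dp_t2_3 (j u : ℕ) : Bool :=
  Bool.rec (motive := fun _ => Bool) (lH [] [] M (Nat.sub (T_t2 u) (Nat.mod (T_t2 u) M)) (Nat.mod (T_t2 u) M) u) (lF [T_t4, T_t2, T_w, T_t4] M (Nat.sub (T_t2 u) (Nat.mod (T_t2 u) M)) (Nat.mod (T_t2 u) M) u) (Nat.ble (nat_lit 12) j)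
noncomputable def dp_t2_4 (j u : ℕ) : Bool :=
  Bool.rec (motive := fun _ => Bool) (lF [T_t3, T_t2, T_t3, T_t2, T_t3] M (Nat.sub (T_t2 u) (Nat.mod (T_t2 u) M)) (Nat.mod (T_t2 u) M) u) (lF [T_t6, T_t2, T_w, T_t6] M (Nat.sub (T_t2 u) (Nat.mod (T_t2 u) M)) (Nat.mod (T_t2 u) M) u) (Nat.ble (nat_lit 14) j)
noncomputable def dp_t2_5 (j u : ℕ) : Bool :=
  Bool.rec (motive := fun _ => Bool) (dp_t2_3 j u) (dp_t2_4 j u) (Nat.ble (nat_lit 13) j)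
noncomputable def dp_t2_6 (j u : ℕ) : Bool :=
  Bool.rec (motive := fun _ => Bool) (Bool.rec (motive := fun _ => Bool) (lF3 T_v T_t2 T_vi M (Nat.sub (T_t2 u) (Nat.mod (T_t2 u) M)) (Nat.mod (T_t2 u) M) u) (dp_t2_1 j u) (Nat.ble (nat_lit 7) j)) (Bool.rec (motive := fun _ => Bool) (dp_t2_2 j u) (dp_t2_5 j u) (Nat.ble (nat_lit 11) j)) (Nat.ble (nat_lit 9) j)
noncomputable def disp_t2 (j u : ℕ) : Bool :=
  Bool.rec (motive := fun _ => Bool) (Bool.rec (motive := fun _ => Bool) (lF3 T_vi T_t2 T_v M (Nat.sub (T_t2 u) (Nat.mod (T_t2 u) M)) (Nat.mod (T_t2 u) M) u) (lF1 T_t2 M (Nat.sub (T_t2 u) (Nat.mod (T_t2 u) M)) (Nat.mod (T_t2 u) M) u) (Nat.ble (nat_lit 1) j)) (Bool.rec (motive := fun _ => Bool) (Bool.rec (motive := fun _ => Bool) (Bool.rec (motive := fun _ => Bool) (lF [T_w, T_t6, T_t2, T_t6] M (Nat.sub (T_t2 u) (Nat.mod (T_t2 u)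 M)) (Nat.mod (T_t2 u) M) u) (lF [T_w, T_t4, T_t2, T_t4] M (Nat.sub (T_t2 u) (Nat.mod (T_t2 u) M)) (Nat.mod (T_t2 u) M) u) (Nat.ble (nat_lit 3) j)) (dp_t2_0 j u) (Nat.ble (nat_lit 4) j)) (dp_t2_6 j u) (Nat.ble (nat_lit 6) j)) (Nat.ble (nat_lit 2) j)
noncomputable def chk_t2 (j u : ℕ) : Bool :=
  Bool.rec (motive := fun _ => Bool) (disp_t2 j u) (Nat.ble (Nat.succ (MG u)) A) (Nat.ble A (T_t2 u))
noncomputable def dp_t3_0 (j u : ℕ) : Bool :=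
  Bool.rec (motive := fun _ => Bool) (lDef P (nat_lit 3) u (Nat.mod (T_t3 u) M)) (lF [T_w, T_t1, T_t3, T_t1] M (Nat.sub (T_t3 u) (Nat.mod (T_t3 u) M)) (Nat.mod (T_t3 u) M) u) (Nat.ble (nat_lit 5) j)
noncomputable def dp_t3_1 (j u : ℕ) : Bool :=
  Bool.rec (motive := fun _ => Bool) (lF [T_w, T_t6, T_t3, T_t6] M (Nat.sub (T_t3 u) (Nat.mod (T_t3 u) M)) (Nat.mod (T_t3 u) M) u) (lF [T_t5, T_t3, T_w, T_t5] M (Nat.sub (T_t3 u) (Nat.mod (T_t3 u) M)) (Nat.mod (T_t3 u) M) u) (Nat.ble (nat_lit 8) j)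
noncomputable def dp_t3_2 (j u : ℕ) : Bool :=
  Bool.rec (motive := fun _ => Bool) (lH [] [] M (Nat.sub (T_t3 u) (Nat.mod (T_t3 u) M)) (Nat.mod (T_t3 u) M) u) (lF [T_t4, T_t3, T_w, T_t4] M (Nat.sub (T_t3 u) (Nat.mod (T_t3 u) M)) (Nat.mod (T_t3 u) M) u) (Nat.ble (nat_lit 10) j)
noncomputable def dp_t3_3 (j u : ℕ) : Bool :=
  Bool.rec (motive := fun _ => Bool) (lF [T_t1, T_t3, T_w, T_t1] M (Nat.sub (T_t3 u) (Nat.mod (T_t3 u) M)) (Nat.mod (T_t3 u) M) u) (lF [T_t0, T_t3, T_w, T_t0] M (Nat.sub (T_t3 u) (Nat.mod (T_t3 u) M)) (Nat.mod (T_t3 u) M) u) (Nat.ble (nat_lit 12) j)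
noncomputable def dp_t3_4 (j u : ℕ) : Bool :=
  Bool.rec (motive := fun _ => Bool) (dp_t3_2 j u) (dp_t3_3 j u) (Nat.ble (nat_lit 11) j)
noncomputable def dp_t3_5 (j u : ℕ) : Bool :=
  Bool.rec (motive := fun _ => Bool) (lF [T_t2, T_t3, T_t2, T_t3, T_t2] M (Nat.sub (T_t3 u) (Nat.mod (T_t3 u) M)) (Nat.mod (T_t3 u) M) u) (lF [T_t6, T_t3, T_w, T_t6] M (Nat.sub (T_t3 u) (Nat.mod (T_t3 u) M)) (Nat.mod (T_t3 u) M) u) (Nat.ble (nat_lit 14) j)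
noncomputable def dp_t3_6 (j u : ℕ) : Bool :=
  Bool.rec (motive := fun _ => Bool) (lF [T_w, T_t5, T_t3, T_t5] M (Nat.sub (T_t3 u) (Nat.mod (T_t3 u) M)) (Nat.mod (T_t3 u) M) u) (lF3 T_v T_t3 T_vi M (Nat.sub (T_t3 u) (Nat.mod (T_t3 u) M)) (Nat.mod (T_t3 u) M) u) (Nat.ble (nat_lit 16) j)
noncomputable def dp_t3_7 (j u : ℕ) : Bool :=
  Bool.rec (motive := fun _ => Bool) (dp_t3_5 j u) (dp_t3_6 j u) (Nat.ble (nat_lit 15) j)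
noncomputable def dp_t3_8 (j u : ℕ) : Bool :=
  Bool.rec (motive := fun _ => Bool) (Bool.rec (motive := fun _ => Bool) (lF [T_w, T_t0, T_t3, T_t0] M (Nat.sub (T_t3 u) (Nat.mod (T_t3 u) M)) (Nat.mod (T_t3 u) M) u) (dp_t3_1 j u) (Nat.ble (nat_lit 7) j)) (Bool.rec (motive := fun _ => Bool) (dp_t3_4 j u) (dp_t3_7 j u) (Nat.ble (nat_lit 13) j)) (Nat.ble (nat_lit 9) j)
noncomputable def dp_t3_9 (j u : ℕ) : Bool :=
  Bool.rec (motive := fun _ => Bool) (Bool.rec (motive := fun _ => Bool) (Bool.rec (motive := fun _ => Bool) (lF [T_w, T_t4, T_t3, T_t4] M (Nat.sub (T_t3 u) (Nat.mod (T_t3 u) M)) (Nat.mod (T_t3 u) M) u) (lDef P (nat_lit 3) (Nat.mod (T_t3 u) M) u) (Nat.ble (nat_lit 3) j)) (dp_t3_0 j u) (Nat.ble (nat_lit 4) j)) (dp_t3_8 j u) (Nat.ble (nat_lit 6) j)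
noncomputable def disp_t3 (j u : ℕ) : Bool :=
  Bool.rec (motive := fun _ => Bool) (Bool.rec (motive := fun _ => Bool) (lF3 T_vi T_t3 T_v M (Nat.sub (T_t3 u) (Nat.mod (T_t3 u) M)) (Nat.mod (T_t3 u) M) u) (lF1 T_t3 M (Nat.sub (T_t3 u) (Nat.mod (T_t3 u) M)) (Nat.mod (T_t3 u) M) u) (Nat.ble (nat_lit 1) j)) (dp_t3_9 j u) (Nat.ble (nat_lit 2) j)
noncomputable def chk_t3 (j u : ℕ) : Bool :=
  Bool.rec (motive := fun _ => Bool) (disp_t3 j u) (Nat.ble (Nat.succ (MG u)) A) (Nat.ble A (T_t3 u))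
noncomputable def dp_t4_0 (j u : ℕ) : Bool :=
  Bool.rec (motive := fun _ => Bool) (lF [T_w, T_t6, T_t4, T_t6] M (Nat.sub (T_t4 u) (Nat.mod (T_t4 u) M)) (Nat.mod (T_t4 u) M) u) (lF [T_t1, T_t4, T_t1, T_t4, T_t1] M (Nat.sub (T_t4 u) (Nat.mod (T_t4 u) M)) (Nat.mod (T_t4 u) M) u) (Nat.ble (nat_lit 8) j)
noncomputable def dp_t4_1 (j u : ℕ) : Bool :=
  Bool.rec (motive := fun _ => Bool) (lF [T_t5, T_t4, T_t5, T_t4, T_t5] M (Nat.sub (T_t4 u) (Nat.mod (T_t4 u) M)) (Nat.mod (T_t4 u) M) u) (lF [T_t5, T_t6, T_t0, T_t1, T_t2, T_t3, T_t4, T_t5, T_t6, T_t0, T_t1, T_t2, T_t3, T_t4, T_t5, T_t6, T_t0, T_t1, T_t2, T_t3, T_t4, T_t5, T_t6, T_vi, T_t0, T_t1, T_t2, T_t3, T_t4, T_t5, T_t6, T_t0, T_t1, T_t2, T_t3, T_t4, T_t5, T_t6, T_t0, T_t1, T_t2, T_t3, T_t4, T_t5, T_t6, T_t0, T_t1, T_t2, T_t3, T_t4, T_t5, T_t6, T_t0, T_t1, T_t2, T_t3, T_t4, T_t5,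 T_t6, T_t0, T_t1, T_t2, T_t3] M (Nat.sub (T_t4 u) (Nat.mod (T_t4 u) M)) (Nat.mod (T_t4 u) M) u) (Nat.ble (nat_lit 12) j)
noncomputable def dp_t4_2 (j u : ℕ) : Bool :=
  Bool.rec (motive := fun _ => Bool) (lH [] [] M (Nat.sub (T_t4 u) (Nat.mod (T_t4 u) M)) (Nat.mod (T_t4 u) M) u) (dp_t4_1 j u) (Nat.ble (nat_lit 11) j)
noncomputable def dp_t4_3 (j u : ℕ) : Bool :=
  Bool.rec (motive := fun _ => Bool) (lF [T_t0, T_w, T_t4, T_t0] M (Nat.sub (T_t4 u) (Nat.mod (T_t4 u) M)) (Nat.mod (T_t4 u) M) u) (dp_t4_2 j u) (Nat.ble (nat_lit 10) j)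
noncomputable def disp_t4 (j u : ℕ) : Bool :=
  Bool.rec (motive := fun _ => Bool) (Bool.rec (motive := fun _ => Bool) (lF3 T_vi T_t4 T_v M (Nat.sub (T_t4 u) (Nat.mod (T_t4 u) M)) (Nat.mod (T_t4 u) M) u) (lDef P (nat_lit 4) (Nat.mod (T_t4 u) M) u) (Nat.ble (nat_lit 1) j)) (Bool.rec (motive := fun _ => Bool) (Bool.rec (motive := fun _ => Bool) (lDef P (nat_lit 4) u (Nat.mod (T_t4 u) M)) (Bool.rec (motive := fun _ => Bool) (lF1 T_t4 M (Nat.sub (T_t4 u) (Nat.mod (T_t4 u) M)) (Nat.mod (T_t4 u) M) u) (lF3 T_v T_t4 T_vi M (Nat.sub (T_t4 u) (Nat.mod (T_t4 u) M)) (Nat.mod (T_t4 u) M) u) (Nat.ble (nat_lit 4) j)) (Nat.ble (nat_lit 3) j)) (Bool.rec (motive := fun _ => Bool) (Bool.rec (motive := fun _ => Bool) (lF [T_t2, T_w, T_t4, T_t2] M (Nat.sub (T_t4 u) (Nat.mod (T_t4 u) M)) (Nat.mod (T_t4 u) M) u) (lF [T_t3, T_w, T_t4, T_t3] M (Nat.sub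 (T_t4 u) (Nat.mod (T_t4 u) M)) (Nat.mod (T_t4 u) M) u) (Nat.ble (nat_lit 6) j)) (Bool.rec (motive := fun _ => Bool) (dp_t4_0 j u) (dp_t4_3 j u) (Nat.ble (nat_lit 9) j)) (Nat.ble (nat_lit 7) j)) (Nat.ble (nat_lit 5) j)) (Nat.ble (nat_lit 2) j)
noncomputable def chk_t4 (j u : ℕ) : Bool :=
  Bool.rec (motive := fun _ => Bool) (disp_t4 j u) (Nat.ble (Nat.succ (MG u)) A) (Nat.ble A (T_t4 u))
noncomputable def dp_t5_0 (j u : ℕ) : Bool :=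
  Bool.rec (motive := fun _ => Bool) (lF [T_t1, T_w, T_t5, T_t1] M (Nat.sub (T_t5 u) (Nat.mod (T_t5 u) M)) (Nat.mod (T_t5 u) M) u) (lF [T_t2, T_w, T_t5, T_t2] M (Nat.sub (T_t5 u) (Nat.mod (T_t5 u) M)) (Nat.mod (T_t5 u) M) u) (Nat.ble (nat_lit 7) j)
noncomputable def dp_t5_1 (j u : ℕ) : Bool :=
  Bool.rec (motive := fun _ => Bool) (lH [] [] M (Nat.sub (T_t5 u) (Nat.mod (T_t5 u) M)) (Nat.mod (T_t5 u) M) u) (lF [T_t6, T_t5, T_t6, T_t5, T_t6] M (Nat.sub (T_t5 u) (Nat.mod (T_t5 u) M)) (Nat.mod (T_t5 u) M) u) (Nat.ble (nat_lit 11) j)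
noncomputable def dp_t5_2 (j u : ℕ) : Bool :=
  Bool.rec (motive := fun _ => Bool) (lF [T_t3, T_w, T_t5, T_t3] M (Nat.sub (T_t5 u) (Nat.mod (T_t5 u) M)) (Nat.mod (T_t5 u) M) u) (dp_t5_1 j u) (Nat.ble (nat_lit 10) j)
noncomputable def dp_t5_3 (j u : ℕ) : Bool :=
  Bool.rec (motive := fun _ => Bool) (lF [T_t4, T_t5, T_t4, T_t5, T_t4] M (Nat.sub (T_t5 u) (Nat.mod (T_t5 u) M)) (Nat.mod (T_t5 u) M) u) (dp_t5_2 j u) (Nat.ble (nat_lit 9) j)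
noncomputable def dp_t5_4 (j u : ℕ) : Bool :=
  Bool.rec (motive := fun _ => Bool) (Bool.rec (motive := fun _ => Bool) (lF1 T_t5 M (Nat.sub (T_t5 u) (Nat.mod (T_t5 u) M)) (Nat.mod (T_t5 u) M) u) (Bool.rec (motive := fun _ => Bool) (lF3 T_v T_t5 T_vi M (Nat.sub (T_t5 u) (Nat.mod (T_t5 u) M)) (Nat.mod (T_t5 u) M) u) (lF [T_t0, T_w, T_t5, T_t0] M (Nat.sub (T_t5 u) (Nat.mod (T_t5 u) M)) (Nat.mod (T_t5 u) M) u) (Nat.ble (nat_lit 5) j)) (Nat.ble (nat_lit 4) j)) (Bool.rec (motive := fun _ => Bool) (dp_t5_0 j u) (dp_t5_3 j u) (Nat.ble (nat_lit 8) j)) (Nat.ble (nat_lit 6) j)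
noncomputable def disp_t5 (j u : ℕ) : Bool :=
  Bool.rec (motive := fun _ => Bool) (Bool.rec (motive := fun _ => Bool) (lF3 T_vi T_t5 T_v M (Nat.sub (T_t5 u) (Nat.mod (T_t5 u) M)) (Nat.mod (T_t5 u) M) u) (Bool.rec (motive := fun _ => Bool) (lDef P (nat_lit 5) (Nat.mod (T_t5 u) M) u) (lDef P (nat_lit 5) u (Nat.mod (T_t5 u) M)) (Nat.ble (nat_lit 2) j)) (Nat.ble (nat_lit 1) j)) (dp_t5_4 j u) (Nat.ble (nat_lit 3) j)
noncomputable def chk_t5 (j u : ℕ) : Bool :=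
  Bool.rec (motive := fun _ => Bool) (disp_t5 j u) (Nat.ble (Nat.succ (MG u)) A) (Nat.ble A (T_t5 u))
noncomputable def dp_t6_0 (j u : ℕ) : Bool :=
  Bool.rec (motive := fun _ => Bool) (lF [T_t3, T_w, T_t6, T_t3] M (Nat.sub (T_t6 u) (Nat.mod (T_t6 u) M)) (Nat.mod (T_t6 u) M) u) (lS MG [T_t6] M (Nat.sub (T_t6 u) (Nat.mod (T_t6 u) M)) (nat_lit 40) (Nat.mod (T_t6 u) M) u) (Nat.ble (nat_lit 11) j)
noncomputable def dp_t6_1 (j u : ℕ) : Bool :=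
  Bool.rec (motive := fun _ => Bool) (lF [T_t5, T_t6, T_t5, T_t6, T_t5] M (Nat.sub (T_t6 u) (Nat.mod (T_t6 u) M)) (Nat.mod (T_t6 u) M) u) (dp_t6_0 j u) (Nat.ble (nat_lit 10) j)
noncomputable def dp_t6_2 (j u : ℕ) : Bool :=
  Bool.rec (motive := fun _ => Bool) (lF [T_t2, T_w, T_t6, T_t2] M (Nat.sub (T_t6 u) (Nat.mod (T_t6 u) M)) (Nat.mod (T_t6 u) M) u) (dp_t6_1 j u) (Nat.ble (nat_lit 9) j)
noncomputable def disp_t6 (j u : ℕ) : Bool :=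
  Bool.rec (motive := fun _ => Bool) (Bool.rec (motive := fun _ => Bool) (lF3 T_vi T_t6 T_v M (Nat.sub (T_t6 u) (Nat.mod (T_t6 u) M)) (Nat.mod (T_t6 u) M) u) (lF1 T_t6 M (Nat.sub (T_t6 u) (Nat.mod (T_t6 u) M)) (Nat.mod (T_t6 u) M) u) (Nat.ble (nat_lit 1) j)) (Bool.rec (motive := fun _ => Bool) (Bool.rec (motive := fun _ => Bool) (lDef P (nat_lit 6) (Nat.mod (T_t6 u) M) u) (Bool.rec (motive := fun _ => Bool) (lDef P (nat_lit 6) u (Nat.mod (T_t6 u) M)) (lF3 T_v T_t6 T_vi M (Nat.sub (T_t6 u) (Nat.mod (T_t6 u) M)) (Nat.mod (T_t6 u) M) u) (Nat.ble (nat_lit 4) j)) (Nat.ble (nat_lit 3) j)) (Bool.rec (motive := fun _ => Bool) (Bool.rec (motive := fun _ => Bool) (lF [T_t4, T_w, T_t6, T_t4] M (Nat.sub (T_t6 u) (Nat.mod (T_t6 u) M)) (Nat.mod (T_t6 u) M) u) (lF [T_t1, T_w, T_t6, T_t1] M (Nat.sub (T_t6 u) (Nat.mod (T_t6 u) M)) (Nat.mod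 (T_t6 u) M) u) (Nat.ble (nat_lit 6) j)) (Bool.rec (motive := fun _ => Bool) (lF [T_t0, T_w, T_t6, T_t0] M (Nat.sub (T_t6 u) (Nat.mod (T_t6 u) M)) (Nat.mod (T_t6 u) M) u) (dp_t6_2 j u) (Nat.ble (nat_lit 8) j)) (Nat.ble (nat_lit 7) j)) (Nat.ble (nat_lit 5) j)) (Nat.ble (nat_lit 2) j)
noncomputable def chk_t6 (j u : ℕ) : Bool :=
  Bool.rec (motive := fun _ => Bool) (disp_t6 j u) (Nat.ble (Nat.succ (MG u)) A) (Nat.ble A (T_t6 u))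
noncomputable def dp_w_0 (j u : ℕ) : Bool :=
  Bool.rec (motive := fun _ => Bool) (lF3 T_t1 T_w T_t1 M (Nat.sub (T_w u) (Nat.mod (T_w u) M)) (Nat.mod (T_w u) M) u) (lF3 T_t2 T_w T_t2 M (Nat.sub (T_w u) (Nat.mod (T_w u) M)) (Nat.mod (T_w u) M) u) (Nat.ble (nat_lit 5) j)
noncomputable def dp_w_1 (j u : ℕ) : Bool :=
  Bool.rec (motive := fun _ => Bool) (lF [T_t0, T_t2, T_t0, T_t2] M (Nat.sub (T_w u) (Nat.mod (T_w u) M)) (Nat.mod (T_w u) M) u) (lF [T_t0, T_t6, T_t0, T_t6] M (Nat.sub (T_w u) (Nat.mod (T_w u) M)) (Nat.mod (T_w u) M) u) (Nat.ble (nat_lit 9) j)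
noncomputable def dp_w_2 (j u : ℕ) : Bool :=
  Bool.rec (motive := fun _ => Bool) (lF3 T_t0 T_w T_t0 M (Nat.sub (T_w u) (Nat.mod (T_w u) M)) (Nat.mod (T_w u) M) u) (dp_w_1 j u) (Nat.ble (nat_lit 8) j)
noncomputable def disp_w (j u : ℕ) : Bool :=
  Bool.rec (motive := fun _ => Bool) (lF3 T_vi T_w T_v M (Nat.sub (T_w u) (Nat.mod (T_w u) M)) (Nat.mod (T_w u) M) u) (Bool.rec (motive := fun _ => Bool) (Bool.rec (motive := fun _ => Bool) (lF3 T_t5 T_w T_t5 M (Nat.sub (T_w u) (Nat.mod (T_w u) M)) (Nat.mod (T_w u) M) u) (Bool.rec (motive := fun _ => Bool) (lF3 T_t4 T_w T_t4 M (Nat.sub (T_w u) (Nat.mod (T_w u) M)) (Nat.mod (T_w u) M) u) (lF3 T_t6 T_w T_t6 M (Nat.sub (T_w u) (Nat.mod (T_w u) M)) (Nat.mod (T_w u) M) u) (Nat.ble (nat_lit 3) j)) (Nat.ble (nat_lit 2) j)) (Bool.rec (motive := fun _ => Bool) (dp_w_0 j u) (Bool.rec (motive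 := fun _ => Bool) (lF3 T_t3 T_w T_t3 M (Nat.sub (T_w u) (Nat.mod (T_w u) M)) (Nat.mod (T_w u) M) u) (dp_w_2 j u) (Nat.ble (nat_lit 7) j)) (Nat.ble (nat_lit 6) j)) (Nat.ble (nat_lit 4) j)) (Nat.ble (nat_lit 1) j)
noncomputable def chk_w (j u : ℕ) : Bool :=
  Bool.rec (motive := fun _ => Bool) (disp_w j u) (Nat.ble (Nat.succ (MG u)) A) (Nat.ble A (T_w u))
noncomputable def dp_v_0 (j u : ℕ) : Bool :=
  Bool.rec (motive := fun _ => Bool) (lF3 T_t0 T_vi T_t0 M (Nat.sub (T_v u) (Nat.mod (T_v u) M)) (Nat.mod (T_v u) M) u) (lF3 T_t4 T_vi T_t4 M (Nat.sub (T_v u) (Nat.mod (T_v u) M)) (Nat.mod (T_v u) M) u) (Nat.ble (nat_lit 5) j)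
noncomputable def dp_v_1 (j u : ℕ) : Bool :=
  Bool.rec (motive := fun _ => Bool) (lF1 T_vi M (Nat.sub (T_v u) (Nat.mod (T_v u) M)) (Nat.mod (T_v u) M) u) (dp_v_0 j u) (Nat.ble (nat_lit 4) j)
noncomputable def dp_v_2 (j u : ℕ) : Bool :=
  Bool.rec (motive := fun _ => Bool) (lS MG [T_vi] M (Nat.sub (T_v u) (Nat.mod (T_v u) M)) (nat_lit 40) (Nat.mod (T_v u) M) u) (dp_v_1 j u) (Nat.ble (nat_lit 3) j)
noncomputable def disp_v (j u : ℕ) : Bool :=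
  Bool.rec (motive := fun _ => Bool) (lDef P (nat_lit 8) (Nat.mod (T_v u) M) u) (Bool.rec (motive := fun _ => Bool) (lDef P (nat_lit 9) u (Nat.mod (T_v u) M)) (dp_v_2 j u) (Nat.ble (nat_lit 2) j)) (Nat.ble (nat_lit 1) j)
noncomputable def chk_v (j u : ℕ) : Bool :=
  Bool.rec (motive := fun _ => Bool) (disp_v j u) (Nat.ble (Nat.succ (MG u)) A) (Nat.ble A (T_v u))
noncomputable def dp_vi_0 (j u : ℕ) : Bool :=
  Bool.rec (motive := fun _ => Bool) (lF1 T_v M (Nat.sub (T_vi u) (Nat.mod (T_vi u) M)) (Nat.mod (T_vi u) M) u) (lF3 T_t0 T_v T_t0 M (Nat.sub (T_vi u) (Nat.mod (T_vi u) M)) (Nat.mod (T_vi u) M) u) (Nat.ble (nat_lit 4) j)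
noncomputable def dp_vi_1 (j u : ℕ) : Bool :=
  Bool.rec (motive := fun _ => Bool) (lF3 T_t6 T_v T_t6 M (Nat.sub (T_vi u) (Nat.mod (T_vi u) M)) (Nat.mod (T_vi u) M) u) (dp_vi_0 j u) (Nat.ble (nat_lit 3) j)
noncomputable def disp_vi (j u : ℕ) : Bool :=
  Bool.rec (motive := fun _ => Bool) (lDef P (nat_lit 8) u (Nat.mod (T_vi u) M)) (Bool.rec (motive := fun _ => Bool) (lDef P (nat_lit 9) (Nat.mod (T_vi u) M) u) (dp_vi_1 j u) (Nat.ble (nat_lit 2) j)) (Nat.ble (nat_lit 1) j)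
noncomputable def chk_vi (j u : ℕ) : Bool :=
  Bool.rec (motive := fun _ => Bool) (disp_vi j u) (Nat.ble (Nat.succ (MG u)) A) (Nat.ble A (T_vi u))
noncomputable def dM_0 (j z1 z2 u : ℕ) : Bool :=
  Bool.rec (motive := fun _ => Bool) (mCo MG T_v M (Nat.sub (MG u) (Nat.mod (MG u) M)) (nat_lit 40) z1 z2 u (Nat.mod (MG u) M)) (Bool.rec (motive := fun _ => Bool) (Bool.rec (motive := fun _ => Bool) (mCo MG T_t5 M (Nat.sub (MG u) (Nat.mod (MG u) M)) (nat_lit 40) z1 z2 u (Nat.mod (MG u) M)) (Bool.rec (motive := fun _ => Bool) (mCo MG T_t6 M (Nat.sub (MG u) (Nat.mod (MG u) M)) (nat_lit 40) z1 z2 u (Nat.mod (MG u) M)) (mCo MG T_t4 M (Nat.sub (MG u) (Nat.mod (MG u) M)) (nat_lit 40) z1 z2 u (Nat.mod (MG u) M)) (Nat.ble (nat_lit 3) j)) (Nat.ble (nat_lit 2) j)) (Bool.rec (motive := fun _ => Bool) (Bool.rec (motive := fun _ => Bool) (mCo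 MG T_t1 M (Nat.sub (MG u) (Nat.mod (MG u) M)) (nat_lit 40) z1 z2 u (Nat.mod (MG u) M)) (mCo MG T_t2 M (Nat.sub (MG u) (Nat.mod (MG u) M)) (nat_lit 40) z1 z2 u (Nat.mod (MG u) M)) (Nat.ble (nat_lit 5) j)) (Bool.rec (motive := fun _ => Bool) (mCo MG T_t0 M (Nat.sub (MG u) (Nat.mod (MG u) M)) (nat_lit 40) z1 z2 u (Nat.mod (MG u) M)) (Bool.rec (motive := fun _ => Bool) (mCo MG T_t3 M (Nat.sub (MG u) (Nat.mod (MG u) M)) (nat_lit 40) z1 z2 u (Nat.mod (MG u) M)) (mRel MG [T_vi, T_t4] [T_t4, T_vi] M (Nat.sub (MG u) (Nat.mod (MG u) M)) (nat_lit 40) z1 u (Nat.mod (MG u) M)) (Nat.ble (nat_lit 8) j)) (Nat.ble (nat_lit 7) j)) (Nat.ble (nat_lit 6) j)) (Nat.ble (nat_lit 4) j)) (Nat.ble (nat_lit 1) j)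
noncomputable def chkM (u : ℕ) : Bool :=
  Bool.rec (motive := fun _ => Bool) (band (Nat.ble (Nat.succ (Nat.mod (MG u) M)) u) (dM_0 (Nat.land (MR u) (nat_lit 15)) (Nat.land (Nat.shiftRight (MR u) (nat_lit 4)) (nat_lit 127)) (Nat.shiftRight (MR u) (nat_lit 11)) u)) true (Nat.ble A (MG u))
noncomputable def chkN (u : ℕ) : Bool :=
  band (chk_t0 (Nat.land (Nat.shiftRight (RS u) (nat_lit 0)) (nat_lit 31)) u) (band (chk_t1 (Nat.land (Nat.shiftRight (RS u) (nat_lit 5)) (nat_lit 31)) u) (band (chk_t2 (Nat.land (Nat.shiftRight (RS u) (nat_lit 10)) (nat_lit 31)) u) (band (chk_t3 (Nat.land (Nat.shiftRight (RS u) (nat_lit 15)) (nat_lit 31)) u) (band (chk_t4 (Nat.land (Nat.shiftRight (RS u) (nat_lit 20)) (nat_lit 31)) u) (band (chk_t5 (Nat.land (Nat.shiftRight (RS u) (nat_lit 25)) (nat_lit 31)) u) (band (chk_t6 (Nat.land (Nat.shiftRight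 (RS u) (nat_lit 30)) (nat_lit 31)) u) (band (chk_w (Nat.land (Nat.shiftRight (RS u) (nat_lit 35)) (nat_lit 31)) u) (band (chk_v (Nat.land (Nat.shiftRight (RS u) (nat_lit 40)) (nat_lit 31)) u) (band (chk_vi (Nat.land (Nat.shiftRight (RS u) (nat_lit 45)) (nat_lit 31)) u) (chkM u))))))))))
noncomputable def chkP (u : ℕ) : Bool := Bool.rec (motive := fun _ => Bool) (chkN u) true (Nat.ble M u)
noncomputable def liveP (u : ℕ) : Bool := Bool.rec (motive := fun _ => Bool) (Nat.ble A (MG u)) false (Nat.ble M u)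
end H34.TCS6A
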